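import Cfsg.Agent.H203.LSTwE6

/-!
# `²E₆(2)`: the bound `2 ^ 10` for the degrees of all projective representations (helper733, for S4816)

Ten pairs in the radical `2^(1+20)` of the parabolic of the highest root: three pairs of short roots over `F₄` (helper203,
`LSTwE6`, `LSTrace`) and the four pairs of long roots.

* `sc_tab` : commuting root elements, one of them long, have commuting lifts;
* `tie` : the commutator of the lifts of a long pair is that of a short pair;
* `ls` : `LS 2 1024 (twistedE6 K 2)`.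
-/

set_option autoImplicit false
set_option linter.dupNamespace false
set_option linter.style.haveILetI false
set_option linter.unusedSectionVars false

universe u v w

namespace Cfsg.Agent.H733.RIM.TwE6

open CoxeterSystem Cfsg.Agent.ChevalleyStructure.CoxeterGeom Cfsg.Agent.Tits.Roots Cfsg.Agent.Tits.Core
  Cfsg.Agent.Nodes.BNOf Cfsg.Agent.Nodes.RGDTwGen Cfsg.Agent.Nodes.RGDChev Cfsg.Agent.Nodes.RGDFold
  Cfsg.Agent.Nodes.RGDFoldSL Cfsg.Agent.Nodes.RGDTwE6 Cfsg.Agent.Nodes.RGDTwTab Cfsg.Agent.Nodes.RGDTwCoordE6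
  Cfsg.Agent.Nodes.RGDTwCoord Cfsg.Agent.Nodes.RGDTwComE6 Cfsg.Agent.Nodes.RGDTwActE6
open Cfsg.Lie Cfsg.Agent.ChevalleyStructure
  Cfsg.Agent.ChevalleyStructure.TwistedU Cfsg.Agent.ChevalleyStructure.TwistedFix
open Cfsg.Agent.ChevalleyStructure.TwE6Basic (sg)
open Cfsg.Agent.H203.LS Cfsg.Agent.H203.LS.TwE6
open Cfsg.Agent.H203.LS.Trace (Fx fx β)

/-- certificates: `(k, l, long?, i, j)`: `k = i + j`, `i`, `j` commute with `l` -/
def tab : List (ℕ × ℕ × Bool × ℕ × ℕ) :=
  [(27, 33, true, 1, 47), (27, 35, true, 1, 47), (27, 38, true, 1, 47), (27, 44, true, 15, 36),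
   (27, 43, true, 10, 40), (27, 41, true, 10, 40), (27, 30, true, 1, 47), (27, 36, true, 1, 47),
   (27, 39, false, 13, 38), (27, 40, true, 1, 47), (27, 42, false, 13, 38), (27, 45, false, 16, 35),
   (30, 33, true, 2, 47), (30, 35, true, 2, 47), (30, 38, true, 10, 42), (30, 44, true, 15, 39),
   (30, 43, true, 10, 42), (30, 41, true, 2, 47), (30, 27, true, 2, 47), (30, 36, false, 13, 41),
   (30, 39, true, 2, 47), (30, 40, false, 13, 41), (30, 42, true, 2, 47), (30, 46, false, 19, 35),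
   (36, 33, true, 5, 47), (36, 35, true, 10, 45), (36, 38, true, 5, 47), (36, 44, true, 21, 39),
   (36, 43, true, 5, 47), (36, 41, true, 10, 45), (36, 27, true, 5, 47), (36, 30, false, 16, 43),
   (36, 39, true, 5, 47), (36, 40, false, 16, 43), (36, 45, true, 5, 47), (36, 46, false, 23, 38),
   (39, 33, true, 7, 47), (39, 35, true, 10, 46), (39, 38, true, 10, 46), (39, 44, true, 26, 36),
   (39, 43, true, 7, 47), (39, 41, true, 7, 47), (39, 27, false, 19, 43), (39, 30, true, 7, 47),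
   (39, 36, true, 7, 47), (39, 42, false, 19, 43), (39, 45, false, 23, 41), (39, 46, true, 7, 47),
   (40, 33, true, 15, 45), (40, 35, true, 8, 47), (40, 38, true, 8, 47), (40, 44, true, 8, 47),
   (40, 43, true, 21, 42), (40, 41, true, 15, 45), (40, 27, true, 8, 47), (40, 30, false, 18, 44),
   (40, 36, false, 18, 44), (40, 42, true, 8, 47), (40, 45, true, 8, 47), (40, 46, false, 24, 38),
   (42, 33, true, 15, 46), (42, 35, true, 11, 47), (42, 38, true, 15, 46), (42, 44, true, 11, 47),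
   (42, 43, true, 26, 40), (42, 41, true, 11, 47), (42, 27, false, 22, 44), (42, 30, true, 11, 47),
   (42, 39, false, 22, 44), (42, 40, true, 11, 47), (42, 45, false, 24, 41), (42, 46, true, 11, 47),
   (45, 33, true, 21, 46), (45, 35, true, 21, 46), (45, 38, true, 17, 47), (45, 44, true, 17, 47),
   (45, 43, true, 17, 47), (45, 41, true, 32, 40), (45, 27, false, 25, 44), (45, 36, true, 17, 47),
   (45, 39, false, 25, 44), (45, 40, true, 17, 47), (45, 42, false, 28, 43), (45, 46, true, 17, 47),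
   (46, 33, true, 26, 45), (46, 35, true, 26, 45), (46, 38, true, 32, 42), (46, 44, true, 20, 47),
   (46, 43, true, 20, 47), (46, 41, true, 20, 47), (46, 30, false, 29, 44), (46, 36, false, 29, 44),
   (46, 39, true, 20, 47), (46, 40, false, 31, 43), (46, 42, true, 20, 47), (46, 45, true, 20, 47)]

/-- the check -/
def chk (e : ℕ × ℕ × Bool × ℕ × ℕ) : Bool :=
  decide (e.1 < 48) && decide (e.2.1 < 48) && decide (e.2.2.2.1 < 48) && decide (e.2.2.2.2 < 48) &&
    decide (rt e.2.2.2.1 + rt e.2.2.2.2 = rt e.1) && decide (Lg (rt e.1)) &&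
    (if e.2.2.1 then decide (Lg (rt e.2.2.2.1)) && decide (Lg (rt e.2.2.2.2)) else
      decide (St (rt e.2.2.2.1)) && decide (St (rt e.2.2.2.2))) &&
    com e.2.2.2.1 e.2.1 && com e.2.2.2.2 e.2.1

theorem chk_tab : ∀ e ∈ tab, chk e = true := by decide +kernel

section

variable {K : Type u} [Field K] [Fintype K] {q : ℕ} {φ : K →+* K} (hφ : ∀ x, φ x = x ^ q)
  (hqq : ∀ t : K, (t ^ q) ^ q = t) {θ : K} (hθ : θ + φ θ = 1)

include hφ hqq

theorem scL {i j k l : ℕ} (hi : i < 48) (hj : j < 48) (hk : k < 48) (hl : l < 48) (e : rt i + rt j = rt k)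
    (li : Lg (rt i)) (lj : Lg (rt j)) (h1 : com i l = true) (h2 : com j l = true) {s : K}
    (hs : φ s = s) (b : K) : SC.{u, v} (xx φ q k s) (xx φ q l b) := by
  have h := clong hφ hqq hi hj hk e li lj (a := nn' K i j * s) (b := 1) (by rw [map_mul, nn'_fix, hs]) (map_one φ)
  rw [mul_one, ← mul_assoc, nn'_sq, one_mul] at h
  rw [← h]
  exact SC.of_commutator (xcomm hφ hqq hi hl h1 _ _) (xcomm hφ hqq hj hl h2 _ _)

include hθ

theorem scT {i j k l : ℕ} (hi : i < 48) (hj : j < 48) (hk : k < 48) (hl : l < 48) (e : rt i + rt j = rt k)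
    (si : St (rt i)) (sj : St (rt j)) (lk : Lg (rt k)) (h1 : com i l = true) (h2 : com j l = true) {s : K}
    (hs : φ s = s) (b : K) : SC.{u, v} (xx φ q k s) (xx φ q l b) := by
  have h := ctrace hφ hqq hi hj hk e si sj lk (nn' K i j * (s * θ)) 1
  have e1 : nn' K i j * (nn' K i j * (s * θ) * φ 1 + φ (nn' K i j * (s * θ)) * 1) = s := by
    rw [map_one, mul_one, mul_one, map_mul, nn'_fix, map_mul, hs]
    have := nn'_sq (K := K) i j
    linear_combination (s * (θ + φ θ)) * this + s * hθ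
  rw [e1] at h
  rw [← h]
  exact SC.of_commutator (xcomm hφ hqq hi hl h1 _ _) (xcomm hφ hqq hj hl h2 _ _)

theorem sc_tab (k l : ℕ) (h : ∃ e ∈ tab, e.1 = k ∧ e.2.1 = l) {s : K} (hs : φ s = s) (b : K) :
    SC.{u, v} (xx φ q k s) (xx φ q l b) := by
  obtain ⟨e, he, rfl, rfl⟩ := h
  have hc := chk_tab e he
  unfold chk at hc
  simp only [Bool.and_eq_true, decide_eq_true_eq] at hc
  obtain ⟨⟨⟨⟨⟨⟨⟨⟨h1, h2⟩, h3⟩, h4⟩, h5⟩, h6⟩, h7⟩, h8⟩, h9⟩ := hc
  split at h7
  · simp only [Bool.and_eq_true, decide_eq_true_eq] at h7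
    exact scL hφ hqq h3 h4 h1 h2 h5 h7.1 h7.2 h8 h9 hs b
  · simp only [Bool.and_eq_true, decide_eq_true_eq] at h7
    exact scT hφ hqq hθ h3 h4 h1 h2 h5 h7.1 h7.2 h6 h8 h9 hs b

omit hθ

/-- `X` and everything -/
theorem sX' {j : ℕ} (hj : j < 48) (h : (com 27 j = true ∧ com 46 j = true) ∨ (com 30 j = true ∧ com 45 j = true))
    {s : K} (hs : φ s = s) (b : K) : SC.{u, v} (xx φ q 47 s) (xx φ q j b) := by
  rcases h with h | h
  · exact sX hφ hqq hj h.1 h.2 hs b
  · exact scL hφ hqq (i := 30) (j := 45) (k := 47) (by norm_num) (by norm_num) (by norm_num) hj (by decide +kernel)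
      (by decide +kernel) (by decide +kernel) h.1 h.2 hs b

end

/-! ### Characteristic two, `q = 2` -/

section two

variable {K : Type u} [Field K] [Fintype K] {q : ℕ} {φ : K →+* K} (hφ : ∀ x, φ x = x ^ q)
  (hqq : ∀ t : K, (t ^ q) ^ q = t) {θ : K} (hθ : θ + φ θ = 1) (h2 : (2 : K) = 0)

include h2 in
theorem nn'_one (i j : ℕ) : nn' K i j = 1 := by
  have h := nn'_sq (K := K) i j
  have h1 : (nn' K i j - 1) * (nn' K i j - 1) = 0 := by linear_combination h + (1 - nn' K i j) * h2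
  rcases mul_eq_zero.1 h1 with h3 | h3 <;> exact sub_eq_zero.1 h3

include hφ hqq h2

theorem xinvS {i : ℕ} (hi : i < 48) (hs : St (rt i)) (a : K) : (xx φ q i a)⁻¹ = xx φ q i a := by
  have h0 : xx φ q i 0 = 1 := by
    have := xadd hφ hqq hi hs 0 0
    rw [add_zero] at this
    exact (left_eq_mul.1 this)
  rw [inv_eq_iff_mul_eq_one, ← xadd hφ hqq hi hs, ← two_mul, h2, zero_mul, h0]

theorem xinvL {i : ℕ} (hi : i < 48) (hs : Lg (rt i)) {a : K} (ha : φ a = a) : (xx φ q i a)⁻¹ = xx φ q i a := by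
  have h0 : xx φ q i 0 = 1 := by
    have := xaddL hφ hqq hi hs (map_zero φ) (map_zero φ)
    rw [add_zero] at this
    exact (left_eq_mul.1 this)
  rw [inv_eq_iff_mul_eq_one, ← xaddL hφ hqq hi hs ha ha, ← two_mul, h2, zero_mul, h0]

omit hφ hqq h2

/-- the long roots of the family `A` -/
def lA : Fin 4 → ℕ := ![27, 30, 36, 39]

/-- the long roots of the family `B` -/
def lB : Fin 4 → ℕ := ![46, 45, 42, 40]

/-- the short roots of the ties -/
def gT : Fin 4 → ℕ := ![13, 19, 23, 29]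

/-- the short pair of the tie -/
def sI : Fin 4 → Fin 3 := ![2, 1, 2, 0]

/-- the third root -/
def eT : Fin 4 → ℕ := ![30, 39, 39, 46]

include hφ hqq hθ h2

/-- **The tie.** -/
theorem tie (j : Fin 4) {P : Type v} [Group P] {π : P →* ↥(twistedE6 K q)} (hπ : Function.Surjective π)
    (hc : π.ker ≤ Subgroup.center P) {E : P} (hE : ∀ p r : P, π p = xx φ q (iA (sI j)) θ →
      π r = xx φ q (iB (sI j)) 1 → p * r * p⁻¹ * r⁻¹ = E) (hEX : π E = xx φ q 47 1) (y z : P)
    (hy : π y = xx φ q (lA j) 1) (hz : π z = xx φ q (lB j) 1) : (y * z * y⁻¹ * z⁻¹) * E = 1 := by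
  have b1 : lA j < 48 ∧ lB j < 48 ∧ gT j < 48 ∧ iA (sI j) < 48 ∧ iB (sI j) < 48 ∧ eT j < 48 := by
    clear hE hy hz; revert j; decide
  obtain ⟨hlA, hlB, hgT, hiA, hiB, heT⟩ := b1
  have b2 : rt (gT j) + rt (iA (sI j)) = rt (lA j) ∧ rt (lB j) + rt (gT j) = rt (iB (sI j)) ∧
      rt (lB j) + (2 : ℤ) • rt (gT j) = rt (eT j) ∧ rt (lA j) + rt (lB j) = rt 47 := by
    clear hE hy hz; revert j; decide +kernel
  obtain ⟨r1, r2, r3, r4⟩ := b2
  have b3 : Lg (rt (lA j)) ∧ Lg (rt (lB j)) ∧ St (rt (gT j)) ∧ St (rt (iA (sI j))) ∧ St (rt (iB (sI j))) ∧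
      Lg (rt (eT j)) := by
    clear hE hy hz r1 r2 r3 r4; revert j; decide +kernel
  obtain ⟨tlA, tlB, tgT, tiA, tiB, teT⟩ := b3
  have b4 : com (iA (sI j)) (lA j) = true ∧ com (iB (sI j)) (lB j) = true ∧ com (eT j) (lB j) = true ∧
      com (eT j) (iB (sI j)) = true ∧ (com 27 (iA (sI j)) = true ∧ com 46 (iA (sI j)) = true) ∧
      ((com 27 (lB j) = true ∧ com 46 (lB j) = true) ∨ (com 30 (lB j) = true ∧ com 45 (lB j) = true)) := by
    clear hE hy hz r1 r2 r3 r4 tlA tlB tgT tiA tiB teT; revert j; decide +kernel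
  obtain ⟨c1, c2, c3, c4, c5, c6⟩ := b4
  have b5 : (∃ e ∈ tab, e.1 = lB j ∧ e.2.1 = iA (sI j)) ∧ (∃ e ∈ tab, e.1 = lA j ∧ e.2.1 = iB (sI j)) ∧
      (∃ e ∈ tab, e.1 = eT j ∧ e.2.1 = iA (sI j)) ∧ (∃ e ∈ tab, e.1 = lA j ∧ e.2.1 = eT j) := by
    clear hE hy hz r1 r2 r3 r4 tlA tlB tgT tiA tiB teT c1 c2 c3 c4 c5 c6; revert j; decide +kernel
  obtain ⟨d1, d2, d3, d4⟩ := b5
  obtain ⟨x, hx⟩ := hπ (xx φ q (iA (sI j)) θ)
  obtain ⟨w, hw'⟩ := hπ (xx φ q (iB (sI j)) 1)
  obtain ⟨g, hg⟩ := hπ (xx φ q (gT j) 1)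
  obtain ⟨c, hcc, hquad⟩ := cquad hφ hqq hlB hgT hiB r2 r3 tlB tgT 1
  obtain ⟨e, he⟩ := hπ (xx φ q (eT j) c)
  rw [nn'_one h2, one_mul] at hquad
  have htr := ctrace hφ hqq hgT hiA hlA r1 tgT tiA tlA 1 θ
  rw [nn'_one h2, one_mul, one_mul, map_one, one_mul, add_comm (φ θ), hθ] at htr
  have i1 := xinvL hφ hqq h2 hlB tlB (map_one φ)
  have i2 := xinvS hφ hqq h2 hiB tiB (1 : K)
  have i3 := xinvL hφ hqq h2 heT teT hcc
  have m1 := xcomm hφ hqq hiA hlA c1 θ 1
  have m2 := xcomm hφ hqq hiB hlB c2 1 1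
  have m3 := xcomm hφ hqq heT hlB c3 c 1
  have m4 := xcomm hφ hqq heT hiB c4 c 1
  have hlong := clong hφ hqq hlA hlB (by norm_num : (47 : ℕ) < 48) r4 tlA tlB (a := 1) (b := 1) (map_one φ) (map_one φ)
  rw [nn'_one h2, mul_one, mul_one] at hlong
  have hxw := hE x w hx hw'
  have key := hw hc (g := g) (x := x) (y := y) (z := z) (w := w) (e := e) ?_ ?_
    ((sc_tab hφ hqq hθ _ _ d1 (map_one φ) θ P π hπ hc z x hz hx).symm)
    (sc_tab hφ hqq hθ _ _ d2 (map_one φ) 1 P π hπ hc y w hy hw')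
    ((sc_tab hφ hqq hθ _ _ d3 hcc θ P π hπ hc e x he hx).symm)
    (sc_tab hφ hqq hθ _ _ d4 (map_one φ) c P π hπ hc y e hy he)
    (sX' hφ hqq hiA (Or.inl c5) (map_one φ) θ P π hπ hc _ _ (by
      rw [map_mul, map_mul, map_mul, map_inv, map_inv, hy, hz, hlong]) hx)
    (by rw [hxw]; exact sX' hφ hqq hlB c6 (map_one φ) 1 P π hπ hc _ _ hEX hz)
  · rw [hxw] at key
    exact key
  · rw [map_mul, map_mul, map_inv, map_mul, hx, hy, hg, m1, ← htr]
    group
  · rw [map_mul, map_mul, map_inv, map_mul, map_mul, hz, hw', hg, he]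
    -- `g B g⁻¹ = (B_s e)⁻¹ B = B B_s e`
    have e1 : xx φ q (gT j) 1 * xx φ q (lB j) 1 * (xx φ q (gT j) 1)⁻¹ =
        (xx φ q (iB (sI j)) 1 * xx φ q (eT j) c)⁻¹ * xx φ q (lB j) 1 := by
      rw [← hquad]
      group
    rw [e1, mul_inv_rev, i2, i3, m4, mul_assoc, m3, ← mul_assoc, m2]

end two

/-! ### The system -/

section sys

variable {K : Type u} [Field K] [Fintype K] {q : ℕ} {φ : K →+* K} (hφ : ∀ x, φ x = x ^ q)
  (hqq : ∀ t : K, (t ^ q) ^ q = t) (hne : ∃ a, φ a ≠ a) (h2 : (2 : K) = 0) (h01 : ∀ s : K, φ s = s → s = 0 ∨ s = 1)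

/-- the parameters -/
def MM (φ : K →+* K) : Fin 3 ⊕ Fin 4 → Type u
  | .inl _ => K
  | .inr _ => Fx φ

/-- the family `A` -/
noncomputable def FA (φ : K →+* K) (q : ℕ) : ∀ i, MM φ i → ↥(twistedE6 K q)
  | .inl i => fun a => xx φ q (iA i) a
  | .inr j => fun a => xx φ q (lA j) a.1

/-- the family `B` -/
noncomputable def FB (φ : K →+* K) (q : ℕ) : ∀ i, MM φ i → ↥(twistedE6 K q)
  | .inl i => fun b => xx φ q (iB i) (nn' K (iA i) (iB i) * φ b)
  | .inr j => fun b => xx φ q (lB j) b.1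

/-- the form -/
noncomputable def bb (hqq : ∀ a, φ (φ a) = a) : ∀ i, MM φ i → MM φ i → Fx φ
  | .inl i => fun a b => β hqq i a b
  | .inr _ => fun a b => (show Fx φ from a) * (show Fx φ from b)

include hφ hqq hne h2 h01

theorem heisG : HeisG.{u, v} (fun s : Fx φ => xx φ q 47 (s : K)) (FA φ q) (FB φ q) (bb (phi_phi hφ hqq)) := by
  obtain ⟨θ, hθ⟩ := Trace.exists_tr (phi_phi hφ hqq) hne
  have H := Trace.heisG.{u, v} (sys.{u, v} hφ hqq hne)
  have z0 : ∀ i : ℕ, i < 48 → xx φ q i 0 = 1 := by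
    intro i hi
    rcases long_or_short (isRoot_rt hi) with h | h
    · have := xaddL hφ hqq hi h (map_zero φ) (map_zero φ)
      rw [add_zero] at this
      exact (left_eq_mul.1 this)
    · have := xadd hφ hqq hi h 0 0
      rw [add_zero] at this
      exact (left_eq_mul.1 this)
  refine ⟨H.XX, ?_, ?_, ?_, ?_, ?_⟩
  · rintro (i | j) s a
    · exact H.XA i s a
    · exact sX' hφ hqq (by clear a; revert j; decide) (by clear a; revert j; decide +kernel) (fx s) _
  · rintro (i | j) s b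
    · exact H.XB i s b
    · exact sX' hφ hqq (by clear b; revert j; decide) (by clear b; revert j; decide +kernel) (fx s) _
  · rintro (i | j) (i' | j') a b
    · exact H.AA i i' a b
    · exact (sc_tab hφ hqq hθ _ _ (by clear a b; revert i j'; decide +kernel) (fx _) _).symm
    · exact sc_tab hφ hqq hθ _ _ (by clear a b; revert j i'; decide +kernel) (fx _) _
    · by_cases hj : j = j'
      · subst hj
        show SC.{u, v} (xx φ q (lA j) _) (xx φ q (lA j) _)
        have hl : lA j < 48 := by clear a b; revert j; decide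
        rcases h01 _ (fx a) with h | h
        · rw [h, z0 _ hl]; exact SC.one_left _
        · rcases h01 _ (fx b) with h' | h'
          · rw [h', z0 _ hl]; exact (SC.one_left _).symm
          · rw [h, h']; exact SC.refl _
      · exact sc_tab hφ hqq hθ _ _ (by clear a b; revert hj; revert j j'; decide +kernel) (fx _) _
  · rintro (i | j) (i' | j') hij a b
    · exact H.BA i i' (fun h => hij (congrArg _ h)) a b
    · exact (sc_tab hφ hqq hθ _ _ (by clear a b hij; revert i j'; decide +kernel) (fx _) _).symm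
    · exact sc_tab hφ hqq hθ _ _ (by clear a b hij; revert j i'; decide +kernel) (fx _) _
    · have hj : j ≠ j' := fun h => hij (congrArg _ h)
      exact sc_tab hφ hqq hθ _ _ (by clear a b hij; revert hj; revert j j'; decide +kernel) (fx _) _
  · intro P _ π hπ hc
    obtain ⟨X', e1, e2, e3⟩ := H.hat P π hπ hc
    refine ⟨X', e1, e2, ?_⟩
    have X0 : X' 0 = 1 := add_map_zero e2
    have X1 : X' 1 * X' 1 = 1 := by
      rw [← e2]
      have : (1 : Fx φ) + 1 = 0 := Subtype.ext (by show (1 : K) + 1 = 0; rw [one_add_one_eq_two, h2])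
      rw [this, X0]
    rintro (i | j) a b p r hp hr
    · exact e3 i a b p r hp hr
    · have hl : lA j < 48 ∧ lB j < 48 := by clear a b hp hr; revert j; decide
      have hp' : π p = xx φ q (lA j) (show Fx φ from a).1 := hp
      have hr' : π r = xx φ q (lB j) (show Fx φ from b).1 := hr
      show p * r * p⁻¹ * r⁻¹ = X' ((show Fx φ from a) * (show Fx φ from b))
      rcases h01 _ (fx a) with ha | ha
      · rw [ha, z0 _ hl.1] at hp'
        have : (show Fx φ from a) = 0 := Subtype.ext ha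
        rw [this, zero_mul, X0, ← mem_cen hc hp' r]
        group
      · rcases h01 _ (fx b) with hb | hb
        · rw [hb, z0 _ hl.2] at hr'
          have : (show Fx φ from b) = 0 := Subtype.ext hb
          rw [this, mul_zero, X0, mem_cen hc hr' p]
          group
        · have ha1 : (show Fx φ from a) = 1 := Subtype.ext ha
          have hb1 : (show Fx φ from b) = 1 := Subtype.ext hb
          rw [ha1, hb1, one_mul]
          rw [ha] at hp'
          rw [hb] at hr'
          have key := tie hφ hqq hθ h2 j hπ hc (E := X' 1) ?_ (e1 1) p r hp' hr'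
          · exact (eq_inv_of_mul_eq_one_left key).trans (inv_eq_of_mul_eq_one_left X1)
          · intro p' r' hp'' hr''
            have hr3 : π r' = xx φ q (iB (sI j)) (nn' K (iA (sI j)) (iB (sI j)) * φ 1) := by
              rw [hr'', nn'_one h2, map_one, one_mul]
            rw [e3 (sI j) θ 1 p' r' hp'' hr3]
            congr 1
            apply Subtype.ext
            show θ * 1 + φ (θ * 1) = 1
            rw [mul_one, hθ]

end sys

/-- **`LS` for `²E₆(2)`: `2 ^ 10`.** -/
theorem ls {K : Type u} [Field K] [Fintype K] [CharP K 2] (hK : Fintype.card K = 2 ^ 2) :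
    LS.{u, v, w} 2 1024 ↥(twistedE6 K 2) := by
  classical
  haveI := (Cfsg.Agent.S1070.result (Nat.prime_two.isPrimePow) hK).1
  obtain ⟨φ, hφ, hqq⟩ := Cfsg.Agent.ChevalleyStructure.TwE6Basic.exists_frob Nat.prime_two.isPrimePow hK
  have h2 : (2 : K) = 0 := by exact_mod_cast CharP.cast_eq_zero K 2
  have h01 : ∀ s : K, φ s = s → s = 0 ∨ s = 1 := by
    intro s hs
    rw [hφ] at hs
    have : s * (s - 1) = 0 := by linear_combination hs
    rcases mul_eq_zero.1 this with h | h
    · exact Or.inl h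
    · exact Or.inr (sub_eq_zero.1 h)
  have hne : ∃ a, φ a ≠ a := by
    by_contra hcon
    push Not at hcon
    have h1 : Fintype.card K ≤ 2 := by
      rw [← Finset.card_univ]
      refine (Finset.card_le_card (t := ({0, 1} : Finset K)) fun x _ => ?_).trans Finset.card_le_two
      rcases h01 x (hcon x) with h | h <;> simp [h]
    omega
  have hpp := phi_phi hφ hqq
  obtain ⟨θ, hθ⟩ := Trace.exists_tr hpp hne
  have H := heisG.{u, v} hφ hqq hne h2 h01
  letI : Fintype (Fx φ) := Fintype.ofFinite _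
  letI fN : ∀ i, Fintype (MM φ i) := fun i => match i with
    | .inl _ => (inferInstance : Fintype K)
    | .inr _ => (inferInstance : Fintype (Fx φ))
  have hcF : Fintype.card (Fx φ) = 2 := by
    have h1 : Nat.card (Fx φ) = 2 := by
      have h3 := Cfsg.Agent.ChevalleyStructure.FixedCard.card_fixed (K := K) (q := 2) one_lt_two hK
      rw [← h3]
      exact Nat.card_congr (Equiv.subtypeEquivRight fun x => by
        show φ x = x ↔ _
        rw [hφ])
    rw [← h1, Nat.card_eq_fintype_card]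
  have hs : ∀ s : Fx φ, (s : K) * θ + φ ((s : K) * θ) = s := fun s => by
    rw [map_mul, fx s, ← mul_add, hθ, mul_one]
  have z0 : ∀ i : ℕ, i < 48 → xx φ 2 i 0 = 1 := by
    intro i hi
    rcases long_or_short (isRoot_rt hi) with h | h
    · have := xaddL hφ hqq hi h (map_zero φ) (map_zero φ)
      rw [add_zero] at this
      exact (left_eq_mul.1 this)
    · have := xadd hφ hqq hi h 0 0
      rw [add_zero] at this
      exact (left_eq_mul.1 this)
  have q1 : ∀ n n' : K, n ≠ n' → ∀ s : Trace.Fx φ, ∃ m : K, β hpp (0 : Fin 3) m n = β hpp (0 : Fin 3) m n' + s := by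
    intro n n' hn s
    have hnn : n - n' ≠ 0 := sub_ne_zero.2 hn
    refine ⟨((s : K) * θ) / (n - n'), Subtype.ext ?_⟩
    show ((s : K) * θ) / (n - n') * n + φ (((s : K) * θ) / (n - n') * n) =
      ((s : K) * θ) / (n - n') * n' + φ (((s : K) * θ) / (n - n') * n') + s
    have e : ((s : K) * θ) / (n - n') * n = ((s : K) * θ) / (n - n') * n' + s * θ := by
      field_simp
      ring
    rw [e, map_add]
    linear_combination hs s
  have q2 : ∀ n n' : Trace.Fx φ, n ≠ n' → ∀ s : Trace.Fx φ, ∃ m : Trace.Fx φ, m * n = m * n' + s := by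
    intro n n' hn s
    have hnn : n - n' ≠ 0 := sub_ne_zero.2 hn
    refine ⟨s / (n - n'), ?_⟩
    field_simp
    ring
  have key := LS.heisG.{u, v, w} (r := 2) H (s₀ := 1) (fun s => by
      rw [nsmul_eq_mul]
      apply Subtype.ext
      show ((2 : Trace.Fx φ) : K) * (s : K) = 0
      have : ((2 : Trace.Fx φ) : K) = (2 : K) := map_ofNat (Trace.Fx φ).subtype 2
      rw [this, h2, zero_mul])
    (by
      intro h
      exact one_ne_zero ((x_eq_one_iff hφ hqq (isRoot_rt (i := 47) (by norm_num)) (ok_one _)).1 h))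
    (fun i => match i with
      | .inl _ => fun n n' hn s => q1 n n' hn s
      | .inr _ => fun n n' hn s => q2 n n' hn s)
    (o := fun i => match i with
      | .inl _ => (0 : K)
      | .inr _ => (0 : Fx φ))
    (by
      rintro (i | j)
      · show xx φ 2 (iB i) (nn' K (iA i) (iB i) * φ 0) = 1
        rw [map_zero, mul_zero, z0 _ (by revert i; decide)]
      · exact z0 _ (by revert j; decide))
    (τ := PUnit) (fun _ => 1) (fun _ s => s) (fun t t' htt => absurd (Subsingleton.elim t t') htt)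
    (fun _ _ a => a) (fun _ _ a => ⟨a, rfl⟩) (fun _ i a => by group)
    (i₀ := .inl 0) (fun _ b => b) (fun s => ⟨((s : K) * θ : K), (1 : K), Subtype.ext (by
      show (s : K) * θ * 1 + φ ((s : K) * θ * 1) = s
      rw [mul_one, hs])⟩)
    (fun _ b => by group)
    (fun _ m n => rfl)
  refine key.mono ?_
  rw [Fintype.prod_sum_type]
  have c1 : ∀ i : Fin 3, @Fintype.card (MM φ (.inl i)) (fN (.inl i)) = 4 := fun i => hK
  have c2 : ∀ j : Fin 4, @Fintype.card (MM φ (.inr j)) (fN (.inr j)) = 2 := fun j => hcF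
  simp only [c1, c2]
  simp

end Cfsg.Agent.H733.RIM.TwE6
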