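import Cfsg.Agent.H733.RIM.EKOf
import Cfsg.Agent.H733.RIM.TwE6
import Cfsg.Agent.H733.RIM.FFour
import Cfsg.Agent.S2104
import Cfsg.Agent.S1062
import Cfsg.Agent.S1066

/-!
# S4816, module side: the rows `F₄(2)` and `²E₆(2)` (helper733)

* `row_f42` : `EK p S`, `S ≃* F₄(2)`, `p = 5, 7, 13, 17` (degree at least 448, multiplier of order two);
* `row_te62` : `EK p S`, `S ≃* ²E₆(2)`, `p = 5, 7, 11, 13, 17, 19` (degree at least 1024, also for the covers).
-/

set_option autoImplicit false
set_option linter.style.haveILetI false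
set_option linter.unusedSectionVars false

namespace Cfsg.Agent.H733.RIM

open Cfsg Cfsg.Agent.H665.RIM Cfsg.Agent.ChevalleyStructure.Elts
open scoped commutatorElement

universe u v w

/-- a group with a simple quotient as in `CoreP` is simple -/
theorem ek_of_simple {p : ℕ} {S : Type u} [Group S] (h : IsSimpleGroup S → EK.{u} p S) : EK.{u} p S := by
  intro H V _ _ _ _ _ K N φ π hC hπ hker hcen
  haveI := hC.nK
  haveI := hC.simp
  have e : H ⧸ K ≃* S := (QuotientGroup.quotientMulEquivOfEq hker.symm).trans
    (QuotientGroup.quotientKerEquivOfSurjective π hπ)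
  haveI : Nontrivial S := e.symm.toEquiv.nontrivial
  exact h (IsSimpleGroup.isSimpleGroup_of_surjective e.toMonoidHom e.surjective) H V K N φ π hC hπ hker hcen

/-- a simple group with two different orders of elements ... is perfect -/
theorem perf_of_simple {S : Type u} [Group S] [IsSimpleGroup S] (h : commutator S ≠ ⊥) : commutator S = ⊤ :=
  ((inferInstance : (commutator S).Normal).eq_bot_or_eq_top).resolve_left h

theorem card_dvd {n : ℕ} {Γ : Type u} [Group Γ] {G : Type v} [Group G] (h : HasCyclicSchurMultiplier G n)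
    {σ : Γ →* G} (hσ : IsStemExtension σ) : Nat.card σ.ker ∣ n := by
  obtain ⟨f, hf⟩ := Cfsg.Agent.H487.HasSchurMultiplier.exists_surj_ker h hσ
  have h1 := Subgroup.card_dvd_of_surjective f hf
  rwa [Nat.card_congr (Multiplicative.toAdd (α := ZMod n)), Nat.card_zmod] at h1

theorem stem_comp {Γ : Type u} {G : Type v} {G' : Type w} [Group Γ] [Group G] [Group G'] {σ : Γ →* G}
    (h : IsStemExtension σ) (e : G ≃* G') :
    IsStemExtension (e.toMonoidHom.comp σ) ∧ (e.toMonoidHom.comp σ).ker = σ.ker := by
  have hk : (e.toMonoidHom.comp σ).ker = σ.ker := by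
    ext x
    rw [MonoidHom.mem_ker, MonoidHom.mem_ker, MonoidHom.comp_apply]
    exact map_eq_one_iff _ e.injective
  exact ⟨⟨e.surjective.comp h.1, by rw [hk]; exact h.2.1, by rw [hk]; exact h.2.2⟩, hk⟩

section f42

variable {F : Type} [Field F] [Fintype F]

theorem two_eq_zero (hF : Fintype.card F = 2) : (2 : F) = 0 := by
  have h := FiniteField.cast_card_eq_zero F
  rw [hF] at h
  exact_mod_cast h

/-- modules for `F₄(2)` -/
theorem le_card_f42 (hF : Fintype.card F = 2) {S : Type u} [Group S] (e : S ≃* Lie.chevF4.group F) {p : ℕ}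
    (hp : p.Prime) (h2 : ¬ p ∣ 2) (V : Type u) [AddCommGroup V] [Finite V] [DistribMulAction S V]
    (hV : ∀ v : V, p • v = 0) (hf : ∀ h : S, (∀ v : V, h • v = v) → h = 1) : p ^ 448 ≤ Nat.card V := by
  haveI : Fact p.Prime := ⟨hp⟩
  refine card_of_bound (L := S) hV fun _ _ ρ hρ => ?_
  have hk : (2 : ZMod p) ≠ 0 := by
    have h3 : ((2 : ℕ) : ZMod p) ≠ 0 := by
      rw [Ne, CharP.cast_eq_zero_iff (ZMod p) p]
      exact h2
    exact_mod_cast h3
  refine FFour.bound_chev (by simp [InList]) (two_eq_zero hF) hk (ρ.comp e.symm.toMonoidHom) ?_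
  intro x y hxy
  have h3 : ρ (e.symm x) = ρ (e.symm y) := hxy
  have h4 : e.symm (x * y⁻¹) = 1 := by
    apply hf
    intro v
    rw [← hρ, map_mul, map_inv, map_mul, h3, ← map_mul, mul_inv_cancel, map_one]
    rfl
  have h5 : x * y⁻¹ = 1 := e.symm.injective (h4.trans (map_one e.symm).symm)
  exact mul_inv_eq_one.1 h5

theorem card_f42 (hF : Fintype.card F = 2) : Nat.card (Lie.chevF4.group F) = 3311126603366400 := by
  rw [S1062.result hF]
  norm_num

theorem row_f42 (hF : Fintype.card F = 2) {S : Type u} [Group S] [Finite S] (e : S ≃* Lie.chevF4.group F) {p : ℕ}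
    (h : p = 5 ∨ p = 7 ∨ p = 13 ∨ p = 17) : EK.{u} p S := by
  refine ek_of_simple fun hs => ?_
  have hcS : Nat.card S = 3311126603366400 := (Nat.card_congr e.toEquiv).trans (card_f42 hF)
  refine ek_of_mult Nat.prime_two (fun H _ _ σ hσ _ => ?_) ?_
  · obtain ⟨h5, h6⟩ := stem_comp hσ e
    have h7 := card_dvd (S2104.result hF) h5
    rwa [h6] at h7
  have hperf : commutator S = ⊤ := by
    rcases (inferInstance : (commutator S).Normal).eq_bot_or_eq_top with h0 | h0
    · exfalso
      have h1 : IsMulCommutative S := ⟨⟨fun a b => by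
        have h2 : ⁅a, b⁆ ∈ commutator S := Subgroup.commutator_mem_commutator (Subgroup.mem_top a) (Subgroup.mem_top b)
        rw [h0, Subgroup.mem_bot] at h2
        exact commutatorElement_eq_one_iff_mul_comm.1 h2⟩⟩
      letI : CommGroup S := { (inferInstance : Group S) with mul_comm := h1.is_comm.comm }
      have h2 : (Nat.card S).Prime := IsSimpleGroup.prime_card
      rw [hcS] at h2
      norm_num at h2
    · exact h0
  rcases h with rfl | rfl | rfl | rfl
  · exact H388.RI.noPEx_simple (N := 132445064134656) (a := 2) (c := 20) (k := 19) (by norm_num) hperf (by norm_num)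
      (by norm_num) (by rw [hcS]; norm_num) (by norm_num) (by norm_num) (by norm_num)
      (fun V _ _ _ => le_card_f42 hF e (by norm_num) (by norm_num) V)
  · exact H388.RI.noPEx_simple (N := 67574012313600) (a := 2) (c := 16) (k := 16) (by norm_num) hperf (by norm_num)
      (by norm_num) (by rw [hcS]; norm_num) (by norm_num) (by norm_num) (by norm_num)
      (fun V _ _ _ => le_card_f42 hF e (by norm_num) (by norm_num) V)
  · exact H388.RI.noPEx_simple (N := 254702046412800) (a := 1) (c := 12) (k := 13) (by norm_num) hperf (by norm_num)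
      (by norm_num) (by rw [hcS]; norm_num) (by norm_num) (by norm_num) (by norm_num)
      (fun V _ _ _ => le_card_f42 hF e (by norm_num) (by norm_num) V)
  · exact H388.RI.noPEx_simple (N := 194772153139200) (a := 1) (c := 11) (k := 12) (by norm_num) hperf (by norm_num)
      (by norm_num) (by rw [hcS]; norm_num) (by norm_num) (by norm_num) (by norm_num)
      (fun V _ _ _ => le_card_f42 hF e (by norm_num) (by norm_num) V)

end f42

section te62

variable {K : Type} [Field K] [Fintype K]

theorem card_te62 (hK : Fintype.card K = 2 ^ 2) : Nat.card (Lie.twistedE6 K 2) = 76532479683774853939200 := by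
  have h := S1066.result (q := 2) (Nat.prime_two.isPrimePow) hK
  norm_num at h
  omega

theorem row_te62 (hK : Fintype.card K = 2 ^ 2) {S : Type u} [Group S] [Finite S] (e : S ≃* Lie.twistedE6 K 2) {p : ℕ}
    (h : p = 5 ∨ p = 7 ∨ p = 11 ∨ p = 13 ∨ p = 17 ∨ p = 19) : EK.{u} p S := by
  refine ek_of_simple fun hs => ?_
  have hcS : Nat.card S = 76532479683774853939200 := (Nat.card_congr e.toEquiv).trans (card_te62 hK)
  haveI : CharP K 2 := by
    obtain ⟨r, hr⟩ := CharP.exists K
    have hrp : r.Prime := (CharP.char_is_prime_or_zero K r).resolve_right (CharP.char_ne_zero_of_finite K r)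
    haveI : Fact r.Prime := ⟨hrp⟩
    obtain ⟨n, -, hn⟩ := FiniteField.card K r
    have h1 : 2 ∣ r ^ (n : ℕ) := by rw [← hn, hK]; norm_num
    have h3 : 2 = r := (Nat.prime_dvd_prime_iff_eq Nat.prime_two hrp).1 (Nat.prime_two.dvd_of_dvd_pow h1)
    subst h3
    exact hr
  have hls : Cfsg.Agent.H203.LS.LS.{u, u, 0} 2 1024 S := (TwE6.ls hK).congr e.symm
  rcases h with rfl | rfl | rfl | rfl | rfl | rfl
  · exact ek_chain_ls (N := 3061299187350994157568) (a := 2) (c := 30) (k := 28) (by norm_num) (by norm_num) hls
      (by norm_num) (by norm_num) (by rw [hcS]; norm_num) (by norm_num) (by norm_num) (by norm_num)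
  · exact ek_chain_ls (N := 1561887340485201100800) (a := 2) (c := 25) (k := 24) (by norm_num) (by norm_num) hls
      (by norm_num) (by norm_num) (by rw [hcS]; norm_num) (by norm_num) (by norm_num) (by norm_num)
  · exact ek_chain_ls (N := 6957498153070441267200) (a := 1) (c := 20) (k := 21) (by norm_num) (by norm_num) hls
      (by norm_num) (by norm_num) (by rw [hcS]; norm_num) (by norm_num) (by norm_num) (by norm_num)
  · exact ek_chain_ls (N := 5887113821828834918400) (a := 1) (c := 19) (k := 19) (by norm_num) (by norm_num) hls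
      (by norm_num) (by norm_num) (by rw [hcS]; norm_num) (by norm_num) (by norm_num) (by norm_num)
  · exact ek_chain_ls (N := 4501910569633814937600) (a := 1) (c := 17) (k := 18) (by norm_num) (by norm_num) hls
      (by norm_num) (by norm_num) (by rw [hcS]; norm_num) (by norm_num) (by norm_num) (by norm_num)
  · exact ek_chain_ls (N := 4028025246514465996800) (a := 1) (c := 16) (k := 17) (by norm_num) (by norm_num) hls
      (by norm_num) (by norm_num) (by rw [hcS]; norm_num) (by norm_num) (by norm_num) (by norm_num)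

end te62

end Cfsg.Agent.H733.RIM
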