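import Cfsg.Agent.H388.RI.Use
import Cfsg.Agent.H487.SchurPerfect
import Cfsg.Agent.H203.LSDef

/-!
# S4816, module side: the reduction to quasisimple groups, and representation bounds (helper733)

* `ek_of_noPEx` : `EK p S` follows from `NoPEx p L` for the perfect central extensions `L → S` with kernel of order prime to
  `p` which are PROPER quotients of a stem extension of `S` with kernel of order prime to `p`;
* `ek_of_mult` : if these stem extensions have kernels of order dividing the prime number `m`, only `L ≃* S` is left;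
* `card_of_bound`, `card_of_ls` : from the degrees of the representations to the orders of the modules;
* `ek_chain_ls` : `EK p S` from the Landazuri-Seitz bound `LS 2 D S` and the chain bound.
-/

set_option autoImplicit false
set_option linter.style.haveILetI false
set_option linter.unusedSectionVars false

namespace Cfsg.Agent.H733.RIM

open Cfsg Cfsg.Agent.H665.RIM Cfsg.Agent.H229.RIM
open Cfsg.Agent.H203.LS
open scoped commutatorElement

universe u v w

/-- perfectness of a quotient -/
theorem perf_quot {H : Type u} [Group H] (N : Subgroup H) [N.Normal] (h : commutator H = ⊤) :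
    commutator (H ⧸ N) = ⊤ := by
  have h1 : (commutator H).map (QuotientGroup.mk' N) = commutator (H ⧸ N) := by
    rw [commutator_def, Subgroup.map_commutator, commutator_def]
    congr 1 <;> exact Subgroup.map_top_of_surjective _ (QuotientGroup.mk'_surjective N)
  rw [← h1, h]
  exact Subgroup.map_top_of_surjective _ (QuotientGroup.mk'_surjective N)

/-- **The reduction to quasisimple groups.** -/
theorem ek_of_noPEx {p : ℕ} {S : Type u} [Group S]
    (h : ∀ (H : Type u) [Group H] [Finite H] (σ : H →* S), IsStemExtension σ → commutator H = ⊤ →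
      ¬ p ∣ Nat.card σ.ker → ∀ (N : Subgroup H) [N.Normal] (hN : N ≤ σ.ker), N ≠ ⊥ →
      (QuotientGroup.lift N σ hN).ker ≤ Subgroup.center (H ⧸ N) →
      Nat.card σ.ker = Nat.card N * Nat.card (QuotientGroup.lift N σ hN).ker → NoPEx.{u} p (H ⧸ N)) :
    EK.{u} p S := by
  intro H V _ _ _ _ _ K N φ σ hC hσ hker hcen
  have hperf : Group.IsPerfect H := ⟨hC.perf⟩
  have hKc : K ≤ Subgroup.center H := fun k hk =>
    Cfsg.Agent.H487.mem_center_of_commutator_mem_center hperf k fun h => hC.cen (hcen k hk h)
  have hstem : IsStemExtension σ := ⟨hσ, by rw [hker]; exact hKc, by rw [hC.perf]; exact le_top⟩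
  haveI hNn : N.Normal := ⟨fun n hn g => by
    have h1 := Subgroup.mem_center_iff.1 (hC.cen hn) g
    rwa [h1, mul_inv_cancel_right]⟩
  have hNK : N ≤ σ.ker := by rw [hker]; exact hC.NK
  have hkm : (QuotientGroup.lift N σ hNK).ker = σ.ker.map (QuotientGroup.mk' N) := by
    ext x
    obtain ⟨y, rfl⟩ := QuotientGroup.mk'_surjective N x
    constructor
    · intro hx
      exact ⟨y, hx, rfl⟩
    · rintro ⟨z, hz, hzy⟩
      rw [← hzy]
      exact hz
  have hLc : (QuotientGroup.lift N σ hNK).ker ≤ Subgroup.center (H ⧸ N) := by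
    rw [hkm]
    rintro _ ⟨z, hz, rfl⟩
    rw [hker] at hz
    rw [Subgroup.mem_center_iff]
    intro t
    obtain ⟨y, rfl⟩ := QuotientGroup.mk'_surjective N t
    rw [← map_mul, ← map_mul, Subgroup.mem_center_iff.1 (hKc hz) y]
  have hcard : Nat.card σ.ker = Nat.card N * Nat.card (QuotientGroup.lift N σ hNK).ker := by
    have h1 := Subgroup.card_mul_index (N.subgroupOf σ.ker)
    rw [Nat.card_congr (Subgroup.subgroupOfEquivOfLe hNK).toEquiv] at h1
    rw [← h1]
    congr 1
    have h2 := Subgroup.relIndex_ker (QuotientGroup.mk' N) (K := σ.ker)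
    rw [QuotientGroup.ker_mk', ← hkm] at h2
    exact h2
  have h0 := h H σ hstem hC.perf (by rw [hker]; exact hC.pK) N hNK hC.Nne hLc hcard
  -- the action of the quotient
  let τ : H →* AddMonoid.End V := DistribMulAction.toAddMonoidEnd H V
  have hτ : ∀ (h : H) (v : V), τ h v = h • v := fun _ _ => rfl
  have hτk : N ≤ τ.ker := by
    intro x hx
    rw [MonoidHom.mem_ker]
    apply AddMonoidHom.ext
    intro v
    exact (hC.ker x).2 hx v
  letI : DistribMulAction (H ⧸ N) V := DistribMulAction.compHom V (QuotientGroup.lift N τ hτk)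
  have hact : ∀ (h : H) (v : V), (QuotientGroup.mk' N h) • v = h • v := fun _ _ => rfl
  refine h0 V hC.exp hC.nt ?_ ?_ ?_
  · intro x hx
    obtain ⟨y, rfl⟩ := QuotientGroup.mk'_surjective N x
    have h1 : y ∈ N := (hC.ker y).1 fun v => by rw [← hact]; exact hx v
    exact (QuotientGroup.eq_one_iff y).2 h1
  · intro W hW
    exact hC.irr W fun h w hw => by rw [← hact]; exact hW _ w hw
  · intro v
    have h1 : (MulAction.stabilizer (H ⧸ N) v).comap (QuotientGroup.mk' N) = MulAction.stabilizer H v := by
      ext x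
      rw [Subgroup.mem_comap, MulAction.mem_stabilizer_iff, MulAction.mem_stabilizer_iff, hact]
    rw [← Subgroup.index_comap_of_surjective _ (QuotientGroup.mk'_surjective N), h1]
    exact hC.P1 v

/-- transport of `NoPEx` -/
theorem noPEx_congr {p : ℕ} {L L' : Type u} [Group L] [Group L'] (e : L ≃* L') (h : NoPEx.{u} p L) : NoPEx.{u} p L' := by
  intro V _ _ _ hV hnt hf hirr hfix
  letI : DistribMulAction L V := DistribMulAction.compHom V e.toMonoidHom
  have hact : ∀ (g : L) (v : V), g • v = e g • v := fun _ _ => rfl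
  refine h V hV hnt ?_ ?_ ?_
  · intro x hx
    have h1 : e x = 1 := hf (e x) fun v => by rw [← hact]; exact hx v
    exact e.injective (h1.trans (map_one e).symm)
  · intro W hW
    refine hirr W fun g w hw => ?_
    have h1 := hW (e.symm g) w hw
    rwa [hact, e.apply_symm_apply] at h1
  · intro v
    have h1 : (MulAction.stabilizer L' v).comap e.toMonoidHom = MulAction.stabilizer L v := by
      ext x
      rw [Subgroup.mem_comap, MulAction.mem_stabilizer_iff, MulAction.mem_stabilizer_iff]
      exact Iff.rfl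
    rw [← h1, Subgroup.index_comap_of_surjective _ e.surjective]
    exact hfix v

/-- **The reduction when the multiplier (outside `p`) has prime order**: only `S` itself is left. -/
theorem ek_of_mult {p m : ℕ} (hm : m.Prime) {S : Type u} [Group S]
    (hM : ∀ (H : Type u) [Group H] [Finite H] (σ : H →* S), IsStemExtension σ → ¬ p ∣ Nat.card σ.ker →
      Nat.card σ.ker ∣ m) (h : NoPEx.{u} p S) : EK.{u} p S := by
  refine ek_of_noPEx fun H _ _ σ hσ _ hp N _ hN hNb _ hc => ?_
  have h1 : Nat.card N ≠ 1 := fun h => hNb (Subgroup.card_eq_one.1 h)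
  have h2 : Nat.card N ∣ m := (Dvd.intro _ hc.symm).trans (hM H σ hσ hp)
  have h3 : Nat.card N = m := (hm.eq_one_or_self_of_dvd _ h2).resolve_left h1
  have h4 : Nat.card (QuotientGroup.lift N σ hN).ker = 1 := by
    have h5 := hM H σ hσ hp
    rw [hc, h3] at h5
    have h6 : m * Nat.card (QuotientGroup.lift N σ hN).ker ≤ m * 1 := by
      rw [mul_one]
      exact Nat.le_of_dvd hm.pos h5
    have h7 : 0 < Nat.card (QuotientGroup.lift N σ hN).ker := Nat.card_pos
    have := Nat.le_of_mul_le_mul_left h6 hm.pos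
    omega
  have h5 : Function.Injective (QuotientGroup.lift N σ hN) :=
    (MonoidHom.ker_eq_bot_iff _).1 (Subgroup.card_eq_one.1 h4)
  have h6 : Function.Surjective (QuotientGroup.lift N σ hN) := by
    intro s
    obtain ⟨x, hx⟩ := hσ.1 s
    exact ⟨QuotientGroup.mk' N x, hx⟩
  exact noPEx_congr (MulEquiv.ofBijective _ ⟨h5, h6⟩).symm h

theorem card_pow_finrank {p : ℕ} [Fact p.Prime] {V : Type v} [AddCommGroup V] [Finite V] [Module (ZMod p) V] :
    FiniteDimensional (ZMod p) V ∧ Nat.card V = p ^ Module.finrank (ZMod p) V := by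
  haveI : Module.Finite (ZMod p) V := Module.Finite.of_finite
  exact ⟨inferInstance, by rw [Module.natCard_eq_pow_finrank (K := ZMod p) (V := V), Nat.card_zmod]⟩

/-- the representation over `F_p` -/
def toLin (p : ℕ) [Fact p.Prime] (L : Type u) (V : Type v) [Group L] [AddCommGroup V] [Module (ZMod p) V]
    [DistribMulAction L V] : L →* (V →ₗ[ZMod p] V) where
  toFun h := AddMonoidHom.toZModLinearMap p (DistribSMul.toAddMonoidHom V h)
  map_one' := LinearMap.ext fun v => one_smul L v
  map_mul' a b := LinearMap.ext fun v => mul_smul a b v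

/-- from a bound for the degrees to a bound for the orders of the modules -/
theorem card_of_bound {p D : ℕ} [Fact p.Prime] {L : Type u} [Group L] {V : Type v} [AddCommGroup V] [Finite V]
    [DistribMulAction L V] (hV : ∀ v : V, p • v = 0)
    (h : ∀ (_ : Module (ZMod p) V) (_ : FiniteDimensional (ZMod p) V) (ρ : L →* (V →ₗ[ZMod p] V)),
      (∀ (g : L) (v : V), ρ g v = g • v) → D ≤ Module.finrank (ZMod p) V) : p ^ D ≤ Nat.card V := by
  letI : Module (ZMod p) V := AddCommGroup.zmodModule hV
  obtain ⟨h1, h2⟩ := card_pow_finrank (p := p) (V := V)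
  have h3 := h _ h1 (toLin p L V) fun _ _ => rfl
  rw [h2]
  exact Nat.pow_le_pow_right (Fact.out : p.Prime).pos h3

/-- **`EK` from the Landazuri-Seitz bound and the chain bound** (no multiplier needed). -/
theorem ek_chain_ls {p r N a c k D : ℕ} {S : Type u} [Group S] [IsSimpleGroup S] (hp : p.Prime) (hrp : ¬ p ∣ r)
    (hS : LS.{u, u, 0} r D S) (hN : ¬ p ∣ N) (ha : a ≠ 0) (hcard : Nat.card S = N * p ^ a) (hc : N < p ^ (c + 1))
    (hkk : N < (p + 1) ^ k) (hnum : c * k < D) : EK.{u} p S := by
  haveI : Fact p.Prime := ⟨hp⟩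
  refine ek_of_noPEx fun H _ _ σ hσ hperf hpk M _ hM _ hLc hcM => ?_
  have hsur : Function.Surjective (QuotientGroup.lift M σ hM) := by
    intro s
    obtain ⟨x, hx⟩ := hσ.1 s
    exact ⟨QuotientGroup.mk' M x, hx⟩
  have hpq := perf_quot M hperf
  have hk : ¬ p ∣ Nat.card (QuotientGroup.lift M σ hM).ker := fun hd => hpk (by
    rw [hcM]; exact Dvd.dvd.mul_left hd _)
  refine H388.RI.noPEx hp hpq hsur hLc hk hN ha hcard hc hkk hnum ?_
  intro V _ _ _ hV hf
  refine card_of_bound (L := H ⧸ M) hV fun _ _ ρ hρ => ?_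
  let b := Module.finBasis (ZMod p) V
  let f : (V →ₗ[ZMod p] V) →* Matrix (Fin (Module.finrank (ZMod p) V)) (Fin (Module.finrank (ZMod p) V)) (ZMod p) :=
    (LinearMap.toMatrixAlgEquiv b).toAlgHom
  have hr : ((r : ℕ) : ZMod p) ≠ 0 := by
    rw [Ne, CharP.cast_eq_zero_iff (ZMod p) p]
    exact hrp
  refine hS (H ⧸ M) (QuotientGroup.lift M σ hM) hsur hLc hpq (ZMod p) hr _ (f.comp ρ).toHomUnits ?_
  intro h1
  have hnt : Nontrivial (H ⧸ M) := by
    have h1 : Nontrivial S := IsSimpleGroup.toNontrivial
    exact hsur.nontrivial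
  obtain ⟨g, hg⟩ := exists_ne (1 : H ⧸ M)
  apply hg
  apply hf
  intro v
  have h2 := congrArg (fun x => ((x g : Matrix.GeneralLinearGroup (Fin (Module.finrank (ZMod p) V)) (ZMod p)) :
    Matrix (Fin (Module.finrank (ZMod p) V)) (Fin (Module.finrank (ZMod p) V)) (ZMod p))) h1
  have h3 : LinearMap.toMatrixAlgEquiv b (ρ g) = 1 := h2
  have h4 : ρ g = 1 := (LinearMap.toMatrixAlgEquiv b).injective (h3.trans (map_one _).symm)
  rw [← hρ, h4]
  rfl

end Cfsg.Agent.H733.RIM
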